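import Cfsg.Agent.H741.Lb.Defs
import Cfsg.Agent.H723.Lb.Card
import Cfsg.Agent.H963.OneP.RankEq
import Cfsg.Agent.H642.Lb.Ten

/-!
# S4879, row of the Baby Monster, `p = 7`: glue (helper141)

`seven_le` : `7 ≤ l(B₀)` from the arithmetical theorem, the matrix `Q` with an abstract basis, four known characters of the
principal block (values modulo `49`) and the relations at the elements of order `11`.
-/

set_option autoImplicit false

namespace Cfsg.Agent.H141.LB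

open Cfsg Subgroup
open Cfsg.Agent.H741.Lb (OneC QMat)
open Cfsg.Agent.Blocks.Basic

universe u

/-- The arithmetical statement. -/
def Arith : Prop :=
  ∀ {I : Type u} [Fintype I] (q : I → Fin 3 → ℤ),
    (∀ i j, ∑ x, q x i * q x j = 7 * ((if i = j then 1 else 0) + 2)) →
    ∀ {x1 x2 x3 x4 : I}, x1 ≠ x2 → x1 ≠ x3 → x1 ≠ x4 → x2 ≠ x3 → x2 ≠ x4 → x3 ≠ x4 → q x1 = ![1, 0, 0] →
    ∀ (a b : ℤ), a % 7 = 1 → b % 7 = 1 → (q x2 0 + a * q x2 1 + b * q x2 2) % 49 = 19 →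
    (q x3 0 + a * q x3 1 + b * q x3 2) % 49 = 45 → (q x4 0 + a * q x4 1 + b * q x4 2) % 49 = 16 →
    ∀ (r : Fin 3 → I → ℤ), (∀ t x, r t x = 0 ∨ r t x = 1 ∨ r t x = -1) → (∀ s t x, s ≠ t → r s x = 0 ∨ r t x = 0) →
    (∀ t, r t x1 = (![1, 0, 0] : Fin 3 → ℤ) t) → (∀ t, r t x2 = (![0, 1, 0] : Fin 3 → ℤ) t) →
    (∀ t, r t x3 = (![0, 0, 1] : Fin 3 → ℤ) t) → (∀ t, r t x4 = 0) → (∀ t j, ∑ x, r t x * q x j = 0) →
    10 ≤ Fintype.card I

variable {G : Type u} [Group G] [Finite G] {M : Ideal AlgInt}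

/-- The relations at an element of order `11`. -/
def Rel11 (M : Ideal AlgInt) (q : IrrCharacter G → Fin 3 → ℤ) (i0 χ2 α : IrrCharacter G) : Prop :=
  ∃ r : Fin 3 → IrrCharacter G → ℤ, (∀ t x, r t x = 0 ∨ r t x = 1 ∨ r t x = -1) ∧
    (∀ s t x, s ≠ t → r s x = 0 ∨ r t x = 0) ∧
    (∀ t, r t i0 = (![1, 0, 0] : Fin 3 → ℤ) t) ∧ (∀ t, r t χ2 = (![0, 1, 0] : Fin 3 → ℤ) t) ∧
    (∀ t, r t α = (![0, 0, 1] : Fin 3 → ℤ) t) ∧
    (∀ χ : IrrCharacter G, 11 ∣ charDegree (χ : G → ℂ) → ∀ t, r t χ = 0) ∧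
    ∀ t j, ∑ᶠ χ ∈ principalBlock M G, r t χ * q χ j = 0

theorem finsum_block {B : Set (IrrCharacter G)} [Fintype B] (F : IrrCharacter G → ℤ) :
    ∑ᶠ χ ∈ B, F χ = ∑ χ : B, F χ := by
  rw [← finsum_set_coe_eq_finsum_mem, finsum_eq_sum_of_fintype]

/-- **`l(B₀) ≥ 7`.** -/
theorem seven_le (hA : Arith.{u}) (hM : IsPModular 7 M) [Fact (Nat.Prime 7)] (hone : OneC 7 G) (P : Sylow 7 G)
    (hP : Nat.card P = 7 ^ 2) (hel : ∀ x ∈ (P : Subgroup G), x ^ 7 = 1) {x : G} (hx : x ∈ (P : Subgroup G))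
    (hx1 : x ≠ 1)
    (h3 : (centralizer ((P : Subgroup G) : Set G)).relIndex
      (normalizer ((P : Subgroup G) : Set G) ⊓ centralizer ({x} : Set G)) = 3)
    {i0 χ2 α χ4 : IrrCharacter G} (m0 : i0 ∈ principalBlock M G) (m2 : χ2 ∈ principalBlock M G)
    (m3 : α ∈ principalBlock M G) (m4 : χ4 ∈ principalBlock M G)
    (d0 : charDegree (i0 : G → ℂ) = 1) (d2 : charDegree (χ2 : G → ℂ) = 96255)
    (d3 : charDegree (α : G → ℂ) = 9550635) (d4 : charDegree (χ4 : G → ℂ) = 4275362520)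
    {f : Fin 3 → centralizer ({x} : Set G) → ℂ} {q : IrrCharacter G → Fin 3 → ℤ} (Q : QMat 7 3 2 M x f q)
    (q0 : q i0 = ![1, 0, 0]) {a b : ℤ} (ha : a % 7 = 1) (hb : b % 7 = 1)
    (hv : ∀ χ ∈ principalBlock M G, (χ : G → ℂ) x = ((q χ 0 + a * q χ 1 + b * q χ 2 : ℤ) : ℂ))
    (hr : Rel11 M q i0 χ2 α) : 7 ≤ blockRank 7 (principalBlock M G) := by
  classical
  have := Characters.Core.finite_irr (G := G)
  have hF : Fintype (principalBlock M G) := Fintype.ofFinite _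
  have hx7 : orderOf x = 7 := orderOf_eq_prime (hel x hx) hx1
  have hconj : ∀ y ∈ (P : Subgroup G), y ≠ 1 → IsConj x y := fun y hy hy1 =>
    hone x y hx1 hy1 ⟨1, by rw [hx7, pow_one]⟩ ⟨1, by rw [orderOf_eq_prime (hel y hy) hy1, pow_one]⟩
  have hcong : ∀ χ ∈ principalBlock M G, (49 : ℤ) ∣ (charDegree (χ : G → ℂ) : ℤ) - (q χ 0 + a * q χ 1 + b * q χ 2) := by
    intro χ hχ
    obtain ⟨v, h1, h2⟩ := H642.Lb.exists_val (P : Subgroup G) (n := 49) (by rw [show (49 : ℕ) = 7 ^ 2 by norm_num]; exact hP)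
      (by norm_num) hconj χ
    rw [hv χ hχ] at h1
    have h3 : q χ 0 + a * q χ 1 + b * q χ 2 = v := by exact_mod_cast h1
    rw [h3]
    exact_mod_cast h2
  obtain ⟨r, r1, r2, r3, r4, r5, r6, r7⟩ := hr
  have ne_of : ∀ {χ ψ : IrrCharacter G}, charDegree (χ : G → ℂ) ≠ charDegree (ψ : G → ℂ) → χ ≠ ψ := by
    rintro χ _ h rfl
    exact h rfl
  have h10 : 10 ≤ Fintype.card (principalBlock M G) := by
    refine hA (fun χ : principalBlock M G => q χ) ?_ (x1 := ⟨i0, m0⟩) (x2 := ⟨χ2, m2⟩) (x3 := ⟨α, m3⟩) (x4 := ⟨χ4, m4⟩)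
      ?_ ?_ ?_ ?_ ?_ ?_ q0 a b ha hb ?_ ?_ ?_ (fun t χ => r t χ) (fun t χ => r1 t χ) (fun s t χ h => r2 s t χ h)
      r3 r4 r5 (fun t => r6 χ4 (by rw [d4]; norm_num) t) ?_
    · intro i j
      have h1 := Q.gram i j
      rw [finsum_block] at h1
      rw [h1]
      split_ifs <;> norm_num
    · exact fun h => ne_of (by rw [d0, d2]; norm_num) (congrArg Subtype.val h)
    · exact fun h => ne_of (by rw [d0, d3]; norm_num) (congrArg Subtype.val h)
    · exact fun h => ne_of (by rw [d0, d4]; norm_num) (congrArg Subtype.val h)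
    · exact fun h => ne_of (by rw [d2, d3]; norm_num) (congrArg Subtype.val h)
    · exact fun h => ne_of (by rw [d2, d4]; norm_num) (congrArg Subtype.val h)
    · exact fun h => ne_of (by rw [d3, d4]; norm_num) (congrArg Subtype.val h)
    · have h1 := hcong χ2 m2
      rw [d2] at h1
      show (q χ2 0 + a * q χ2 1 + b * q χ2 2) % 49 = 19
      generalize q χ2 0 + a * q χ2 1 + b * q χ2 2 = w at h1
      omega
    · have h1 := hcong α m3
      rw [d3] at h1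
      show (q α 0 + a * q α 1 + b * q α 2) % 49 = 45
      generalize q α 0 + a * q α 1 + b * q α 2 = w at h1
      omega
    · have h1 := hcong χ4 m4
      rw [d4] at h1
      show (q χ4 0 + a * q χ4 1 + b * q χ4 2) % 49 = 16
      generalize q χ4 0 + a * q χ4 1 + b * q χ4 2 = w at h1
      omega
    · intro t j
      have h1 := r7 t j
      rwa [finsum_block] at h1
  rw [← Nat.card_eq_fintype_card] at h10
  have h4 := H723.LbC.card_eq_of_oneClass hM (fun y z hy hy1 hz hz1 => hone y z hy1 hz1 hy hz) (x := x)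
    ⟨1, by rw [hx7, pow_one]⟩ hx1
  rw [H963.OneP.RankEq.rank_eq hM (by norm_num) P hP hel hx hx1, h3] at h4
  omega

end Cfsg.Agent.H141.LB
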